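import Groth.Agent.GaGmKerLib.Main
import Groth.Agent.HMProjLib.Gm
import Groth.Agent.HMProjLib.Crit
import Groth.Agent.GrpHomLib.Image
import Groth.Agent.AlbNormLib.ChowTrace
import Groth.Agent.AVAmpleLib.IsogInv
import Groth.Agent.AntiAffLib.Image
import Groth.Agent.AlbLib.AVClass
import Groth.Agent.WeilResLib.Transporter
import Groth.Agent.S3280

/-!
# Groups isogenous to the multiplicative group
-/

set_option autoImplicit false
set_option backward.isDefEq.respectTransparency false
set_option maxHeartbeats 1000000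
set_option synthInstance.maxHeartbeats 400000

universe u

open CategoryTheory CategoryTheory.Limits MonoidalCategory CartesianMonoidalCategory AlgebraicGeometry
open scoped MonObj
open scoped LaurentPolynomial

noncomputable section

namespace GmIsog

attribute [-instance] CategoryTheory.Hom.commGroup

variable {k : Type u} [Field k]

theorem pow_comp {G H T : Over (Spec (CommRingCat.of k))} [GrpObj G] [GrpObj H] (u : G ⟶ H) [IsMonHom u]
    (a : T ⟶ G) (n : ℕ) : (a ^ n) ≫ u = (a ≫ u) ^ n := by
  induction n with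
  | zero => rw [_root_.pow_zero, _root_.pow_zero, MonObj.one_comp]
  | succ n ih => rw [_root_.pow_succ, _root_.pow_succ, MonObj.mul_comp, ih]

theorem comp_pow {G T T' : Over (Spec (CommRingCat.of k))} [GrpObj G] (t : T' ⟶ T) (a : T ⟶ G) (n : ℕ) :
    t ≫ (a ^ n) = (t ≫ a) ^ n := by
  induction n with
  | zero => rw [_root_.pow_zero, _root_.pow_zero, MonObj.comp_one]
  | succ n ih => rw [_root_.pow_succ, _root_.pow_succ, MonObj.comp_mul, ih]

theorem unitOfPt_one {T : Over (Spec (CommRingCat.of k))} :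
    GmPts.unitOfPt (1 : T ⟶ Red.Gm (Spec (CommRingCat.of k))) = 1 := by
  have h := GmPts.unitOfPt_mul (1 : T ⟶ Red.Gm (Spec (CommRingCat.of k))) 1
  rw [_root_.mul_one] at h
  exact mul_left_cancel (h.symm.trans (_root_.mul_one _).symm)

theorem unitOfPt_pow {T : Over (Spec (CommRingCat.of k))} (a : T ⟶ Red.Gm (Spec (CommRingCat.of k))) (n : ℕ) :
    GmPts.unitOfPt (a ^ n) = GmPts.unitOfPt a ^ n := by
  induction n with
  | zero => rw [_root_.pow_zero, _root_.pow_zero, unitOfPt_one]
  | succ n ih => rw [_root_.pow_succ, _root_.pow_succ, GmPts.unitOfPt_mul, ih]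

/-- A closed subscheme of the multiplicative group killed by `n > 0` is finite. -/
theorem isFinite_of_pow_eq_one {K : Over (Spec (CommRingCat.of k))} (i : K ⟶ Red.Gm (Spec (CommRingCat.of k)))
    [IsClosedImmersion i.left] (n : ℕ) (hn : 0 < n) (h : i ^ n = 1) : IsFinite K.hom := by
  obtain ⟨haff, hsurj⟩ := IsClosedImmersion.isAffine_surjective_of_isAffine i.left
  haveI := haff
  letI : Algebra k Γ(K.left, ⊤) := (Groth.Agent.GaGmKer.algMap K).toAlgebra
  let t : Γ(K.left, ⊤) := (GmPts.unitOfPt i : Γ(K.left, ⊤))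
  have ht : t ^ n = 1 := by
    have h' := congrArg GmPts.unitOfPt h
    rw [unitOfPt_pow, unitOfPt_one] at h'
    exact congrArg Units.val h'
  let S := Algebra.adjoin k ({t} : Set Γ(K.left, ⊤))
  have hmem : ∀ j : ℤ, ((GmPts.unitOfPt i ^ j : (Γ(K.left, ⊤))ˣ) : Γ(K.left, ⊤)) ∈ S := by
    have hinv : (((GmPts.unitOfPt i)⁻¹ : (Γ(K.left, ⊤))ˣ) : Γ(K.left, ⊤)) = t ^ (n - 1) := by
      refine Units.inv_eq_of_mul_eq_one_right ?_
      rw [← _root_.pow_succ', Nat.sub_add_cancel hn, ht]
    have ht' : t ∈ S := Algebra.subset_adjoin rfl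
    intro j
    cases j with
    | ofNat m => rw [Int.ofNat_eq_natCast, zpow_natCast, Units.val_pow_eq_pow_val]; exact pow_mem ht' m
    | negSucc m => rw [zpow_negSucc, ← inv_pow, Units.val_pow_eq_pow_val, hinv]; exact pow_mem (pow_mem ht' _) _
  have htop : S = ⊤ := by
    refine eq_top_iff.2 fun a => fun _ => ?_
    revert a
    suffices h : ∀ a, a ∈ S from fun a _ => h a
    intro a
    obtain ⟨b, rfl⟩ := hsurj a
    obtain ⟨q, rfl⟩ := (HMProjLib.gm_facts (k := k)).2.2.2 b
    induction q using LaurentPolynomial.induction_on' with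
    | add p q hp hq => rw [map_add, map_add]; exact add_mem hp hq
    | C_mul_T j c =>
      rw [HMProjLib.evGm, map_mul, map_mul, LaurentPolynomial.eval₂_C, LaurentPolynomial.eval₂_T]
      refine mul_mem ?_ ?_
      · exact (RingHom.congr_fun (Groth.Agent.GaGmKer.algMap_comp i) c).symm ▸ S.algebraMap_mem c
      · have e : Units.map i.left.appTop.hom.toMonoidHom (GmPts.unitOfPt (𝟙 (Red.Gm (Spec (CommRingCat.of k))))) =
            GmPts.unitOfPt i := by rw [← GmPts.unitOfPt_comp, Category.comp_id]
        have e2 := hmem j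
        rw [← e, ← map_zpow] at e2
        exact e2
  have hint : _root_.IsIntegral k t := ⟨Polynomial.X ^ n - Polynomial.C 1, Polynomial.monic_X_pow_sub_C 1 hn.ne',
    by simp [ht]⟩
  haveI : Module.Finite k Γ(K.left, ⊤) := by
    refine ⟨?_⟩
    have h1 := IsIntegral.fg_adjoin_singleton hint
    have h2 : Subalgebra.toSubmodule S = ⊤ := by rw [htop, Algebra.top_toSubmodule]
    exact h2 ▸ h1
  refine (HasAffineProperty.iff_of_isAffine (P := @IsFinite) (f := K.hom)).2 ⟨inferInstance, ?_⟩
  have hf : (Groth.Agent.GaGmKer.algMap K).Finite := RingHom.finite_algebraMap.2 (inferInstance : Module.Finite k Γ(K.left, ⊤))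
  exact hf.of_comp_finite

/-- Points in a fibre of a finite morphism do not specialise to each other. -/
theorem not_specializes_of_isFinite {X Y : Scheme.{u}} (f : X ⟶ Y) [IsFinite f] {x y : X} (h : f.base x = f.base y)
    (hne : x ≠ y) (hs : x ⤳ y) : False := by
  have hd := f.isDiscrete_preimage_singleton (f.base y)
  haveI := hd.to_subtype
  let a : f.base ⁻¹' {f.base y} := ⟨x, h⟩
  let b : f.base ⁻¹' {f.base y} := ⟨y, rfl⟩
  have hs' : a ⤳ b := (subtype_specializes_iff _ _).2 hs
  exact hne (congrArg Subtype.val hs'.eq)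

/-- The power map of a group. -/
def powId (G : Over (Spec (CommRingCat.of k))) [GrpObj G] (n : ℕ) : G ⟶ G := (𝟙 G : G ⟶ G) ^ n

/-- The power maps of the multiplicative group are dominant. -/
theorem isDominant_pow (n : ℕ) (hn : 0 < n) :
    IsDominant (powId (Red.Gm (Spec (CommRingCat.of k))) n).left := by
  obtain ⟨hint, haff, hev⟩ := HMProjLib.gm_facts (k := k)
  set P := powId (Red.Gm (Spec (CommRingCat.of k))) n with hP
  let m : k[T;T⁻¹] →+* k[T;T⁻¹] :=
    AddMonoidAlgebra.mapDomainRingHom k (AddMonoidHom.mulRight (n : ℤ))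
  have hm : Function.Injective m :=
    AddMonoidAlgebra.mapDomain_injective (mul_left_injective₀ (Int.natCast_ne_zero.2 hn.ne'))
  have key : ∀ q, P.left.appTop (HMProjLib.evGm k q) = HMProjLib.evGm k (m q) := by
    intro q
    induction q using LaurentPolynomial.induction_on' with
    | add p q hp hq => simp only [map_add, hp, hq]
    | C_mul_T j c =>
      have hmT : m (LaurentPolynomial.C c * LaurentPolynomial.T j) =
          LaurentPolynomial.C c * LaurentPolynomial.T (j * n) := by
        rw [← LaurentPolynomial.single_eq_C_mul_T, ← LaurentPolynomial.single_eq_C_mul_T]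
        exact AddMonoidAlgebra.mapDomain_single
      have e : Units.map P.left.appTop.hom.toMonoidHom (GmPts.unitOfPt (𝟙 (Red.Gm (Spec (CommRingCat.of k))))) =
          GmPts.unitOfPt (𝟙 (Red.Gm (Spec (CommRingCat.of k)))) ^ n := by
        rw [← GmPts.unitOfPt_comp, Category.comp_id, hP, powId, unitOfPt_pow]
      rw [hmT, HMProjLib.evGm, map_mul, map_mul, map_mul, LaurentPolynomial.eval₂_C, LaurentPolynomial.eval₂_T,
        LaurentPolynomial.eval₂_T]
      congr 1
      · exact RingHom.congr_fun (Groth.Agent.GaGmKer.algMap_comp P) c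
      · rw [mul_comm j, zpow_mul, zpow_natCast, ← e, ← map_zpow]
        rfl
  have hinj : Function.Injective P.left.appTop := by
    intro a b h
    obtain ⟨p, rfl⟩ := hev.2 a
    obtain ⟨q, rfl⟩ := hev.2 b
    rw [key, key] at h
    rw [hm (hev.1 h)]
  haveI : CompactSpace (Red.Gm (Spec (CommRingCat.of k))).left := inferInstance
  exact isDominant_of_of_appTop_injective (f := P.left) hinj

/-- A group finite over an abstract group `G` is isomorphic to `G`. -/
theorem aux {Gm H : Over (Spec (CommRingCat.of k))} [GrpObj Gm] [GrpObj H] [Smooth H.hom] [ConnectedSpace H.left]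
    [LocallyOfFiniteType H.hom] [LocallyOfFiniteType Gm.hom] [QuasiCompact Gm.hom] [IsIntegral Gm.left]
    (hab : ∀ {T : Over (Spec (CommRingCat.of k))} (a b : T ⟶ Gm), a * b = b * a)
    (hfin : ∀ {K : Over (Spec (CommRingCat.of k))} (i : K ⟶ Gm) [IsClosedImmersion i.left] (n : ℕ), 0 < n →
      i ^ n = 1 → IsFinite K.hom)
    (hdom : ∀ n : ℕ, 0 < n → IsDominant (powId Gm n).left)
    (hmain : ∀ {K : Over (Spec (CommRingCat.of k))} [GrpObj K] (i : K ⟶ Gm) [IsMonHom i] [Mono i] [IsFinite K.hom],
      ∃ φ : Gm ⟶ Gm, IsMonHom φ ∧ AlgGrp.IsKernel i φ ∧ Flat φ.left ∧ Surjective φ.left)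
    (f : H ⟶ Gm) [IsMonHom f] [IsFinite f.left] [Surjective f.left] :
    Nonempty (Grp.mk H ≅ Grp.mk Gm) := by
  haveI : QuasiCompact H.hom := by rw [← Over.w f]; infer_instance
  haveI : GeometricallyReduced H.hom := AbSchLib.geometricallyReduced_of_smooth H.hom
  haveI := AlbLib.geometricallyIntegral_of_reduced_connected H
  haveI : IsIntegral H.left := by
    haveI : Subsingleton ↥(Spec (CommRingCat.of k)) := inferInstanceAs (Subsingleton (PrimeSpectrum k))
    exact GeometricallyIntegral.isIntegral_of_subsingleton H.hom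
  -- the kernel
  let N := pullback f (η[Gm])
  let i : N ⟶ H := pullback.fst f (η[Gm])
  have hN : IsPullback i (toUnit N) f η[Gm] := by
    rw [toUnit_unique (toUnit N) (pullback.snd f (η[Gm]))]
    exact IsPullback.of_hasPullback _ _
  have hker : ∀ {T : Over (Spec (CommRingCat.of k))} (g : T ⟶ H), (∃ z, z ≫ i = g) ↔ g ≫ f = 1 := by
    intro T g
    constructor
    · rintro ⟨z, rfl⟩
      rw [Category.assoc, hN.w, ← Category.assoc, toUnit_unique (z ≫ toUnit N) (toUnit T), ← Hom.one_def]
    · intro h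
      exact ⟨hN.lift g (toUnit T) (by rw [h, Hom.one_def]), hN.lift_fst _ _ _⟩
  obtain ⟨hNg, hiM⟩ := Groth.Agent.WeilRes.exists_grpObj_of_pred i (fun {T} g => g ≫ f = 1) hker
    (MonObj.one_comp f) (fun {T} a b ha hb => by rw [MonObj.mul_comp, ha, hb, _root_.one_mul])
    (fun {T} a ha => by rw [GrpObj.inv_comp, ha, inv_one])
  letI := hNg
  haveI := hiM
  haveI : IsFinite N.hom := by
    have h : IsPullback i.left (toUnit N).left f.left (η[Gm] : 𝟙_ _ ⟶ Gm).left := hN.map (Over.forget _)
    haveI : IsFinite (toUnit N).left := MorphismProperty.of_isPullback (P := @IsFinite) h ‹IsFinite f.left›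
    rw [← Over.w (toUnit N)]
    haveI : IsFinite (𝟙_ (Over (Spec (CommRingCat.of k)))).hom :=
      inferInstanceAs (IsFinite (𝟙 (Spec (CommRingCat.of k))))
    infer_instance
  haveI : IsIntegral (H ⊗ H).left := by
    haveI : Flat H.hom := Groth.Agent.GrpField.flat_field H.hom
    haveI : UniversallyOpen H.hom := Groth.Agent.GrpField.universallyOpen_field H.hom
    haveI : IsLocallyNoetherian H.left := LocallyOfFiniteType.isLocallyNoetherian H.hom
    haveI : Flat (pullback.fst H.hom H.hom) := MorphismProperty.pullback_fst (P := @Flat) _ _ inferInstance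
    haveI : UniversallyOpen (pullback.fst H.hom H.hom) :=
      MorphismProperty.pullback_fst (P := @UniversallyOpen) _ _ inferInstance
    exact GeometricallyIntegral.isIntegral_of_isLocallyNoetherian (pullback.fst H.hom H.hom)
  have hcomm : fst H H * snd H H = snd H H * fst H H := by
    obtain ⟨c, hc⟩ := (hker (fst H H * snd H H * (fst H H)⁻¹ * (snd H H)⁻¹)).2 (by
      rw [MonObj.mul_comp, MonObj.mul_comp, MonObj.mul_comp, GrpObj.inv_comp, GrpObj.inv_comp,
        hab (fst H H ≫ f) (snd H H ≫ f)]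
      group)
    let o : 𝟙_ (Over (Spec (CommRingCat.of k))) ⟶ H ⊗ H := lift 1 1
    haveI : Mono i := inferInstance
    have h1 : o ≫ c = 1 := by
      rw [← cancel_mono i, Category.assoc, hc, MonObj.one_comp]
      simp [o, MonObj.comp_mul, GrpObj.comp_inv]
    have hc1 : c = 1 := AlbNormLib.eq_one_of_finite_target c (o.left (IsLocalRing.closedPoint k))
      ⟨IsLocalRing.closedPoint k, by
        rw [← Scheme.Hom.comp_apply, ← Over.comp_left, h1, Hom.one_def,
          toUnit_unique (toUnit (𝟙_ (Over (Spec (CommRingCat.of k))))) (𝟙 _), Category.id_comp]⟩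
    rw [hc1, MonObj.one_comp] at hc
    exact commutatorElement_eq_one_iff_mul_comm.1 (by rw [commutatorElement_def]; exact hc.symm)
  obtain ⟨n, hn, hpow⟩ := AVAmpleLib.exists_pow_eq_one_of_finite N
  have hcomm' : ∀ {T : Over (Spec (CommRingCat.of k))} (a b : T ⟶ H), a * b = b * a := by
    intro T a b
    have := congrArg (fun z => lift a b ≫ z) hcomm
    simpa [MonObj.comp_mul] using this
  have hn1 : (𝟙 H : H ⟶ H) ^ n * (𝟙 H)⁻¹ ^ n = 1 := by rw [inv_pow, mul_inv_cancel]
  haveI : IsMonHom ((𝟙 H : H ⟶ H) ^ n) := by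
    refine ⟨?_, ?_⟩
    · have e : (η[H] : 𝟙_ (Over (Spec (CommRingCat.of k))) ⟶ H) = 1 := by
        rw [Hom.one_def, toUnit_unique (toUnit _) (𝟙 _), Category.id_comp]
      rw [comp_pow, Category.comp_id, e, _root_.one_pow]
    · rw [comp_pow, Category.comp_id, MonoidalCategory.tensorHom_def]
      have e : (μ[H] : H ⊗ H ⟶ H) = fst H H * snd H H := by rw [Hom.mul_def, lift_fst_snd, Category.id_comp]
      rw [e, Commute.mul_pow (hcomm' _ _), MonObj.comp_mul]
      simp [comp_pow]
  have hni : i ≫ ((𝟙 H : H ⟶ H) ^ n) = toUnit N ≫ η[H] := by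
    rw [comp_pow, Category.comp_id, ← Category.id_comp i, ← pow_comp, hpow, MonObj.one_comp, Hom.one_def]
  haveI : IsReduced Gm.left := inferInstance
  haveI : Flat f.left := AntiAffLib.flat_of_surjective f
  obtain ⟨g, hgm, hg, -⟩ := Groth.Agent.S3280.result k H N Gm H f i hN _ hni
  haveI := hgm
  have hgf : g ≫ f = (𝟙 Gm) ^ n := by
    haveI := AntiAffLib.lfp_of_lft f
    haveI : Epi f := Groth.Agent.MonoQuot.epi_over f
    rw [← cancel_epi f, ← Category.assoc, hg, pow_comp, Category.id_comp, comp_pow, Category.comp_id]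
  -- `g` is surjective
  haveI : IsSeparated H.hom := Groth.Agent.GrpField.isSeparated_grp (G := H)
  haveI : QuasiCompact g.left := by
    haveI : QuasiCompact (g.left ≫ H.hom) := by rw [Over.w g]; infer_instance
    exact QuasiCompact.of_comp g.left H.hom
  have hcl : IsClosed (Set.range g.left.base) := Groth.Agent.GrpHom.isClosed_range g
  haveI : Surjective g.left := by
    refine ⟨Set.range_eq_univ.1 ?_⟩
    haveI := hdom n hn
    haveI : IsDominant ((𝟙 Gm : Gm ⟶ Gm) ^ n).left := hdom n hn
    have h1 : IsClosed (f.left.base '' Set.range g.left.base) := f.left.isClosedMap _ hcl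
    have h2 : f.left.base '' Set.range g.left.base = Set.univ := by
      rw [← h1.closure_eq, ← Set.range_comp, ← TopCat.coe_comp, ← Scheme.Hom.comp_base, ← Over.comp_left, hgf]
      exact (powId Gm n).left.denseRange.closure_range
    obtain ⟨z, hz, hze⟩ := h2.ge (Set.mem_univ (f.left.base (genericPoint H.left)))
    have h3 : genericPoint H.left = z := by
      by_contra hne
      exact not_specializes_of_isFinite f.left hze.symm hne ((genericPoint_spec H.left).specializes trivial)
    rw [← Set.univ_subset_iff, ← (genericPoint_spec H.left).def]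
    exact hcl.closure_subset_iff.2 (Set.singleton_subset_iff.2 (h3 ▸ hz))
  let K := pullback g (η[H])
  let j : K ⟶ Gm := pullback.fst g (η[H])
  have hK : IsPullback j (toUnit K) g η[H] := by
    rw [toUnit_unique (toUnit K) (pullback.snd g (η[H]))]
    exact IsPullback.of_hasPullback _ _
  have hjker : ∀ {T : Over (Spec (CommRingCat.of k))} (t : T ⟶ Gm), (∃ z, z ≫ j = t) ↔ t ≫ g = 1 := by
    intro T t
    constructor
    · rintro ⟨z, rfl⟩
      rw [Category.assoc, hK.w, ← Category.assoc, toUnit_unique (z ≫ toUnit K) (toUnit T), ← Hom.one_def]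
    · intro h
      exact ⟨hK.lift t (toUnit T) (by rw [h, Hom.one_def]), hK.lift_fst _ _ _⟩
  obtain ⟨hKg, hjM⟩ := Groth.Agent.WeilRes.exists_grpObj_of_pred j (fun {T} t => t ≫ g = 1) hjker
    (MonObj.one_comp g) (fun {T} a b ha hb => by rw [MonObj.mul_comp, ha, hb, _root_.one_mul])
    (fun {T} a ha => by rw [GrpObj.inv_comp, ha, inv_one])
  letI := hKg
  haveI := hjM
  haveI : IsClosedImmersion (η[H] : 𝟙_ _ ⟶ H).left := isClosedImmersion_of_comp_eq_id H.hom _ (Over.w _)
  haveI : IsClosedImmersion j.left :=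
    MorphismProperty.of_isPullback (P := @IsClosedImmersion) (hK.map (Over.forget _)).flip ‹_›
  haveI : IsFinite K.hom := hfin j n hn (by
    rw [show j ^ n = (j ≫ g) ≫ f by rw [Category.assoc, hgf, comp_pow, Category.comp_id], hK.w,
      ← Hom.one_def, MonObj.one_comp])
  haveI : Mono j := inferInstance
  obtain ⟨φ, hφm, hφk, hφf, hφs⟩ := hmain j
  haveI := hφm; haveI := hφf; haveI := hφs
  haveI : Flat g.left := AntiAffLib.flat_of_surjective g
  obtain ⟨a, ham, ha, -⟩ := Groth.Agent.S3280.result k Gm K H Gm g j hK φ hφk.w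
  obtain ⟨b, hbm, hb, -⟩ := Groth.Agent.S3280.result k Gm K Gm H φ j hφk g hK.w
  haveI := AntiAffLib.lfp_of_lft φ
  haveI := AntiAffLib.lfp_of_lft g
  haveI : Epi φ := Groth.Agent.MonoQuot.epi_over φ
  haveI : Epi g := Groth.Agent.MonoQuot.epi_over g
  let e : H ≅ Gm := ⟨a, b, by rw [← cancel_epi g, reassoc_of% ha, hb, Category.comp_id],
    by rw [← cancel_epi φ, reassoc_of% hb, ha, Category.comp_id]⟩
  exact ⟨Grp.mkIso e (by simpa using ham.one_hom) (by simpa using ham.mul_hom)⟩

theorem main {H : Over (Spec (CommRingCat.of k))} [GrpObj H] [Smooth H.hom] [ConnectedSpace H.left]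
    (f : H ⟶ Red.Gm (Spec (CommRingCat.of k))) [IsMonHom f] [IsFinite f.left] [Surjective f.left] :
    Nonempty (Grp.mk H ≅ Grp.mk (Red.Gm (Spec (CommRingCat.of k)))) := by
  haveI : IsIntegral (Red.Gm (Spec (CommRingCat.of k))).left := (HMProjLib.gm_facts (k := k)).1
  haveI : IsAffine (Red.Gm (Spec (CommRingCat.of k))).left := (HMProjLib.gm_facts (k := k)).2.1
  haveI : QuasiCompact (Red.Gm (Spec (CommRingCat.of k))).hom := quasiCompact_of_compactSpace _
  haveI := HMProjLib.gm_lft (k := k)
  haveI : LocallyOfFiniteType H.hom := by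
    haveI : LocallyOfFiniteType f.left := inferInstance
    rw [← Over.w f]; infer_instance
  refine aux (fun a b => ?_) (fun i _ n hn h => isFinite_of_pow_eq_one i n hn h) isDominant_pow
    (fun i _ _ _ => Groth.Agent.GaGmKer.gm_main i) f
  exact Function.LeftInverse.injective GmPts.ptOfUnit_unitOfPt
    (show GmPts.unitOfPt (a * b) = GmPts.unitOfPt (b * a) by rw [GmPts.unitOfPt_mul, GmPts.unitOfPt_mul, mul_comm])

end GmIsog
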